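import Cfsg.Agent.Lib.M24Elt.AutCheck
import Cfsg.Agent.Lib.M24Elt.Centralisers

/-!
The certificates of `M24Elt.AutCheck` for permutations of `Fin n`, `n ≤ 256`.
-/

set_option autoImplicit false
set_option maxHeartbeats 300000

namespace CfsgLib.PermAut

open Cfsg CfsgLib.Comp
open CfsgLib.M24Elt (powN powN_spec)
open CfsgLib.M24Elt.AutBound (wordProd map_wordProd evalN evalN_spec exists_conj_mem card_out_le exists_normal_form)

/-- Test for the identity. -/
noncomputable def isOne (n c : ℕ) : Bool := CfsgLib.M24Elt.agree n c (PermCode.one n)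

theorem val_eq_one {n c : ℕ} (hn : n ≤ 256) (h : PermCode.Ok n c) (e : isOne n c = true) :
    PermCode.val n c = 1 := by
  apply Equiv.ext
  intro i
  apply Fin.ext
  rw [PermCode.val_apply h]
  simp only [isOne, CfsgLib.M24Elt.agree] at e
  rw [Nat.eq_of_beq_eq_true (PermCode.allLt_spec e i i.2), PermCode.get_one hn i.2]
  rfl

theorem isOne_of_val {n c : ℕ} (hn : n ≤ 256) (h : PermCode.Ok n c) (e : PermCode.val n c = 1) :
    isOne n c = true := by
  simp only [isOne, CfsgLib.M24Elt.agree]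
  refine PermCode.allLt_of fun i hi => ?_
  rw [PermCode.get_one hn hi, show PermCode.get c i = i from
    (PermCode.val_apply h ⟨i, hi⟩).symm.trans (by rw [e]; rfl)]
  exact Nat.beq_refl i

theorem val_ne_one {n c : ℕ} (hn : n ≤ 256) (h : PermCode.Ok n c) (e : isOne n c = false) :
    PermCode.val n c ≠ 1 := fun e' => Bool.noConfusion (e.symm.trans (isOne_of_val hn h e'))

theorem val_eq_of_beq {n a b : ℕ} (h : Nat.beq a b = true) : PermCode.val n a = PermCode.val n b := by
  rw [Nat.eq_of_beq_eq_true h]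

/-- A list containing the identity and closed under left multiplication by the generators. -/
noncomputable def closedCheck (n : ℕ) (gens : List ℕ) (elts : List (ℕ × List ℕ)) : Bool :=
  gens.all (PermCode.okb n) &&
  elts.any (fun e => Nat.beq e.1 (PermCode.one n)) &&
  elts.all (fun e => PermCode.okb n e.1 && Nat.beq e.2.length gens.length &&
    (List.zipWith (fun s i => Nat.beq (PermCode.mul n s e.1) ((elts.getD i (0, [])).1) &&
      Nat.blt i elts.length) gens e.2).all id)

theorem exists_code_of_mem {n : ℕ} (hn : n ≤ 256) {gens : List ℕ} {elts : List (ℕ × List ℕ)}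
    (h : closedCheck n gens elts = true) {g : Equiv.Perm (Fin n)} (hg : g ∈ PermCode.span n gens) :
    ∃ e ∈ elts, PermCode.Ok n e.1 ∧ PermCode.val n e.1 = g := by
  simp only [closedCheck, Bool.and_eq_true, List.all_eq_true, List.any_eq_true] at h
  obtain ⟨⟨hgok, ⟨e₀, he₀, he₁⟩⟩, hcl⟩ := h
  let S : Set (Equiv.Perm (Fin n)) := {g | ∃ e ∈ elts, PermCode.val n e.1 = g}
  let T : Submonoid (Equiv.Perm (Fin n)) :=
    { carrier := {g | ∀ u ∈ S, g * u ∈ S}
      one_mem' := fun u hu => by rwa [one_mul]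
      mul_mem' := fun {a c} ha hc u hu => by rw [mul_assoc]; exact ha _ (hc u hu) }
  let U : Subgroup (Equiv.Perm (Fin n)) :=
    { T with
      inv_mem' := fun {x} hx => by
        have e : x⁻¹ = x ^ (orderOf x - 1) := inv_eq_of_mul_eq_one_right (by
          rw [← pow_succ', Nat.sub_add_cancel (orderOf_pos x), pow_orderOf_eq_one])
        show x⁻¹ ∈ T
        rw [e]; exact pow_mem hx _ }
  have hT : g ∈ U := by
    refine (Subgroup.closure_le U).2 ?_ hg
    rintro _ ⟨s, hs, rfl⟩ _ ⟨e, he, rfl⟩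
    obtain ⟨k, hk, rfl⟩ := List.mem_iff_getElem.1 hs
    obtain ⟨⟨heok, hlen⟩, hz⟩ := hcl e he
    have hk' : k < e.2.length := by rw [Nat.eq_of_beq_eq_true hlen]; exact hk
    have := hz _ (List.mem_iff_getElem.2 ⟨k, by simp [hk, hk'], rfl⟩)
    simp only [List.getElem_zipWith, id_eq, Bool.and_eq_true, Nat.blt_eq] at this
    obtain ⟨h1, h2⟩ := this
    refine ⟨elts[e.2[k]]'h2, List.getElem_mem _, ?_⟩
    have e1 := Nat.eq_of_beq_eq_true h1
    rw [List.getD_eq_getElem _ _ h2] at e1
    rw [← e1, PermCode.val_mul hn (PermCode.ok_of_okb (hgok _ hs)) (PermCode.ok_of_okb heok)]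
  obtain ⟨e, he, heg⟩ := hT 1 ⟨e₀, he₀, by rw [Nat.eq_of_beq_eq_true he₁, PermCode.val_one hn]⟩
  rw [mul_one] at heg
  exact ⟨e, he, PermCode.ok_of_okb (hcl e he).1.1, heg⟩

/-- Whether the relation `w ^ m = 1` holds for a pair of codes. -/
noncomputable def relHolds (n a b : ℕ) (r : List Bool × ℕ) : Bool :=
  isOne n (powN n (evalN n a b r.1) r.2)

theorem relHolds_iff {n a b : ℕ} (hn : n ≤ 256) (ha : PermCode.Ok n a) (hb : PermCode.Ok n b)
    (r : List Bool × ℕ) :
    relHolds n a b r = true ↔ wordProd (PermCode.val n a) (PermCode.val n b) r.1 ^ r.2 = 1 := by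
  obtain ⟨h1, h2⟩ := evalN_spec hn ha hb r.1
  rw [← h2, ← (powN_spec hn h1 r.2).2]
  exact ⟨val_eq_one hn (powN_spec hn h1 r.2).1, isOne_of_val hn (powN_spec hn h1 r.2).1⟩

theorem code_inj' {n a b : ℕ} (hn : n ≤ 256) {p q p' q' : ℕ} (hp : PermCode.Ok n p) (hq : PermCode.Ok n q)
    (hp' : PermCode.Ok n p') (hq' : PermCode.Ok n q') (ha : a = PermCode.mul n p q)
    (hb : b = PermCode.mul n p' q') (h : PermCode.val n a = PermCode.val n b) : a = b := by
  have e : ∀ i, i < n → PermCode.get p (PermCode.get q i) = PermCode.get p' (PermCode.get q' i) := by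
    intro i hi
    rw [← PermCode.get_mul hn hp hq hi, ← PermCode.get_mul hn hp' hq' hi, ← ha, ← hb]
    have h' := congrArg (fun g : Equiv.Perm (Fin n) => ((g ⟨i, hi⟩ : Fin n) : ℕ)) h
    subst ha hb
    simpa [PermCode.val_apply (PermCode.ok_mul hn hp hq), PermCode.val_apply (PermCode.ok_mul hn hp' hq')] using h'
  rw [ha, hb, PermCode.mul_eq_build, PermCode.mul_eq_build]
  exact CfsgLib.M24Elt.build_congr n _ _ e

theorem code_eq {n : ℕ} (hn : n ≤ 256) {s e : ℕ} (hs : PermCode.Ok n s) (he : PermCode.Ok n e)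
    (h : PermCode.val n s * PermCode.val n e = PermCode.val n e * PermCode.val n s) :
    PermCode.mul n s e = PermCode.mul n e s :=
  code_inj' hn hs he he hs rfl rfl (by rw [PermCode.val_mul hn hs he, PermCode.val_mul hn he hs, h])

theorem elt_mem {n : ℕ} (hn : n ≤ 256) {gens : List ℕ} {elts : List (ℕ × List ℕ)}
    (h : closedCheck n gens elts = true) (hlen : elts.length ≤ Nat.card (PermCode.span n gens))
    {e : ℕ × List ℕ} (he : e ∈ elts) : PermCode.val n e.1 ∈ PermCode.span n gens := by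
  classical
  let T : Finset (Equiv.Perm (Fin n)) := (elts.map fun e => PermCode.val n e.1).toFinset
  have hsub : (PermCode.span n gens : Set (Equiv.Perm (Fin n))) ⊆ T := fun g hg => by
    obtain ⟨e, he, -, heq⟩ := exists_code_of_mem hn h hg
    exact List.mem_toFinset.2 (List.mem_map.2 ⟨e, he, heq⟩)
  have heq := Set.eq_of_subset_of_ncard_le hsub (by
    rw [Set.ncard_coe_finset, ← Nat.card_coe_set_eq]
    exact le_trans (List.toFinset_card_le _) (by rw [List.length_map]; exact hlen)) (Finset.finite_toSet T)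
  rw [← SetLike.mem_coe, heq]
  exact List.mem_toFinset.2 (List.mem_map.2 ⟨e, he, rfl⟩)

theorem span_le {n : ℕ} {gens : List ℕ} {K : Subgroup (Equiv.Perm (Fin n))}
    (h : ∀ s ∈ gens, PermCode.val n s ∈ K) : PermCode.span n gens ≤ K := by
  rw [PermCode.span, Subgroup.closure_le]
  rintro _ ⟨s, hs, rfl⟩
  exact h s hs

/-- Certificate data. -/
structure Data where
  /-- the degree -/
  n : ℕ
  /-- the order of `x` -/
  p : ℕ
  /-- the code of `x` -/
  x : ℕ
  /-- the code of `y` -/
  y : ℕ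
  /-- the powers of `x` -/
  pows : List ℕ
  /-- representatives of the orbits of `x`, in rows of 32 -/
  reps : List (List ℕ)
  /-- the number of representatives -/
  nR : ℕ
  /-- for each representative a position whose conjugate under `y` it is -/
  tree : List (List ℕ)
  /-- the positions in increasing order of their codes -/
  sorted : List ℕ
  /-- generators of the centraliser of `y` -/
  centGens : List ℕ
  /-- exponents of the classes of elements of order `p` -/
  ks : List ℕ
  /-- conjugators for the powers of `x`, with exponents from `ks` -/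
  conjs : List (ℕ × ℕ)
  /-- the relations of `(x, y)` -/
  rels : List (List Bool × ℕ)
  /-- the pairs satisfying all relations -/
  goods : List (ℕ × ℕ)
  /-- failing relation for each remaining pair -/
  bad : List (List (List ℕ))
  /-- the exponent of the Sylow 2-subgroup -/
  e : ℕ
  /-- generators of a Sylow 2-subgroup -/
  sylGens : List ℕ
  /-- its elements -/
  sylElts : List (ℕ × List ℕ)

variable (D : Data)

/-- A representative. -/
noncomputable def Data.rep (j : ℕ) : ℕ := (D.reps.getD (j / 32) []).getD (j % 32) 0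

/-- A power of `x`. -/
noncomputable def Data.pw (i : ℕ) : ℕ := D.pows.getD i 0

/-- A conjugate of a representative, coded by `i + 32 * j`. -/
noncomputable def Data.at' (v : ℕ) : ℕ :=
  PermCode.mul D.n (D.pw (v % 32)) (PermCode.mul D.n (D.rep (v / 32)) (D.pw ((D.p - v % 32) % D.p)))

/-- Validity of a position. -/
noncomputable def Data.posOk (v : ℕ) : Bool := Nat.blt (v % 32) D.p && Nat.blt (v / 32) D.nR

/-- Membership and power tables. -/
noncomputable def baseOk (memH : ℕ → Bool) : Bool :=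
  (memH D.x && memH D.y && Nat.blt 0 D.p && Nat.blt D.p 33) &&
  isOne D.n (powN D.n D.x D.p) && !isOne D.n D.x && isOne D.n (powN D.n D.y 2) && !isOne D.n D.y &&
  PermCode.allLt D.p (fun i => PermCode.okb D.n (D.pw i) && Nat.beq (D.pw i) (powN D.n D.x i)) &&
  PermCode.allLt D.nR (fun j => PermCode.okb D.n (D.rep j)) && D.rels.all (relHolds D.n D.x D.y) &&
  Nat.blt 0 D.nR && Nat.beq (D.rep 0) D.y

/-- Each representative is conjugate under `y` to a conjugate of an earlier one. -/
noncomputable def treeOk : Bool :=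
  PermCode.allLt D.nR fun j => Nat.beq j 0 || step ((D.tree.getD (j / 32) []).getD (j % 32) 0) j
where
  /-- One step. -/
  step (v j : ℕ) : Bool :=
    D.posOk v && Nat.blt (v / 32) j &&
      Nat.beq (PermCode.mul D.n D.y (D.at' v)) (PermCode.mul D.n (D.rep j) D.y)

/-- Codes of listed positions increase from a bound. -/
noncomputable def incrFrom : ℕ → List ℕ → Bool
  | _, [] => true
  | b, v :: vs => D.posOk v && Nat.blt b (D.at' v) && incrFrom (D.at' v) vs

/-- The listed positions are as many as the class of `y` can be. -/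
noncomputable def classOk (memH : ℕ → Bool) (c m : ℕ) : Bool :=
  incrFrom D 0 D.sorted && D.centGens.all (fun s => memH s &&
    Nat.beq (PermCode.mul D.n s D.y) (PermCode.mul D.n D.y s)) &&
    Nat.beq (Nat.mul D.sorted.length c) m

/-- The powers of `x` are conjugate to those with exponent in `ks`. -/
noncomputable def classesOk (memH : ℕ → Bool) : Bool :=
  PermCode.allLt D.p fun k => Nat.beq k 0 ||
    (memH (D.conjs.getD k (0, 0)).1 && Nat.blt (D.conjs.getD k (0, 0)).2 D.p &&
      D.ks.contains (D.conjs.getD k (0, 0)).2 &&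
      Nat.beq (PermCode.mul D.n (D.conjs.getD k (0, 0)).1 (D.pw (D.conjs.getD k (0, 0)).2))
        (PermCode.mul D.n (D.pw k) (D.conjs.getD k (0, 0)).1))

/-- The centre of the Sylow subgroup is generated by `y`. -/
noncomputable def sylOk (memH : ℕ → Bool) : Bool :=
  closedCheck D.n D.sylGens D.sylElts && D.sylGens.all memH &&
    D.sylElts.any (fun e => Nat.beq e.1 D.y) && Nat.beq D.sylElts.length (Nat.pow 2 D.e) &&
    D.sylGens.all (fun s => Nat.beq (PermCode.mul D.n s D.y) (PermCode.mul D.n D.y s)) &&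
    D.sylElts.all (fun e => isOne D.n e.1 || Nat.beq e.1 D.y ||
      D.sylGens.any (fun s => !Nat.beq (PermCode.mul D.n s e.1) (PermCode.mul D.n e.1 s)))

/-- Every pair is good or breaks a relation. -/
noncomputable def pairsOk : Bool :=
  PermCode.allLt D.ks.length fun a => Nat.blt (D.ks.getD a 0) D.p && PermCode.allLt D.nR fun j =>
    D.goods.contains (D.ks.getD a 0, j) ||
      !relHolds D.n (D.pw (D.ks.getD a 0)) (D.rep j)
        (D.rels.getD (((D.bad.getD a []).getD (j / 32) []).getD (j % 32) 0) ([], 0))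

variable {D} (hn : D.n ≤ 256) {H : Subgroup (Equiv.Perm (Fin D.n))} {memH : ℕ → Bool}
  (hmem : ∀ c, memH c = true → PermCode.Ok D.n c ∧ PermCode.val D.n c ∈ H)

include hn hmem

theorem base_spec (hb : baseOk D memH = true) :
    (PermCode.val D.n D.x ∈ H ∧ PermCode.val D.n D.y ∈ H ∧ 0 < D.p ∧ D.p < 33) ∧
    (PermCode.val D.n D.x ^ D.p = 1 ∧ PermCode.val D.n D.x ≠ 1 ∧ PermCode.val D.n D.y ^ 2 = 1 ∧ PermCode.val D.n D.y ≠ 1) ∧
    (∀ i < D.p, PermCode.Ok D.n (D.pw i) ∧ PermCode.val D.n (D.pw i) = PermCode.val D.n D.x ^ i) ∧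
    (∀ j < D.nR, PermCode.Ok D.n (D.rep j)) ∧ (0 < D.nR ∧ D.rep 0 = D.y) ∧
    ∀ r ∈ D.rels, wordProd (PermCode.val D.n D.x) (PermCode.val D.n D.y) r.1 ^ r.2 = 1 := by
  simp only [baseOk, Bool.and_eq_true, Nat.blt_eq, Bool.not_eq_true'] at hb
  obtain ⟨⟨⟨⟨⟨⟨⟨⟨⟨⟨⟨⟨hx, hy⟩, hp⟩, hp'⟩, hxp⟩, hx1⟩, hy2⟩, hy1⟩, hpw⟩, hrep⟩, hrels⟩, hnR⟩, hr0⟩ := hb
  have hxo := (hmem _ hx).1
  have hyo := (hmem _ hy).1
  refine ⟨⟨(hmem _ hx).2, (hmem _ hy).2, hp, hp'⟩,
    ⟨by rw [← (powN_spec hn hxo _).2]; exact val_eq_one hn (powN_spec hn hxo _).1 hxp, val_ne_one hn hxo hx1,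
      by rw [← (powN_spec hn hyo _).2]; exact val_eq_one hn (powN_spec hn hyo _).1 hy2, val_ne_one hn hyo hy1⟩,
    fun i hi => ?_, fun j hj => PermCode.ok_of_okb (PermCode.allLt_spec hrep j hj), ⟨hnR, Nat.eq_of_beq_eq_true hr0⟩,
    fun r hr => (relHolds_iff hn hxo hyo r).1 (List.all_eq_true.1 hrels r hr)⟩
  have h := PermCode.allLt_spec hpw i hi
  rw [Bool.and_eq_true] at h
  exact ⟨PermCode.ok_of_okb h.1,
    (val_eq_of_beq h.2).trans (powN_spec hn hxo i).2⟩

theorem at_spec (hb : baseOk D memH = true) {v : ℕ} (hv : D.posOk v = true) :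
    PermCode.Ok D.n (D.at' v) ∧
      PermCode.val D.n (D.at' v) = PermCode.val D.n D.x ^ (v % 32) * PermCode.val D.n (D.rep (v / 32)) * (PermCode.val D.n D.x ^ (v % 32))⁻¹ := by
  obtain ⟨⟨-, -, hp, -⟩, ⟨hxp, -, -, -⟩, hpw, hrep, -, -⟩ := base_spec hn hmem hb
  simp only [Data.posOk, Bool.and_eq_true, Nat.blt_eq] at hv
  obtain ⟨h1, e1⟩ := hpw _ hv.1
  have h2 := hrep _ hv.2
  obtain ⟨h3, e3⟩ := hpw ((D.p - v % 32) % D.p) (Nat.mod_lt _ hp)
  rw [Data.at']
  refine ⟨PermCode.ok_mul hn h1 (PermCode.ok_mul hn h2 h3), ?_⟩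
  rw [PermCode.val_mul hn h1 (PermCode.ok_mul hn h2 h3), PermCode.val_mul hn h2 h3, e1, e3, mul_assoc]
  congr 2
  refine eq_inv_of_mul_eq_one_left ?_
  rw [← pow_mod_self hxp, ← pow_add, Nat.sub_add_cancel hv.1.le, hxp]
where
  pow_mod_self {M : Type} [Monoid M] {a : M} {p k : ℕ} (h : a ^ p = 1) : a ^ k = a ^ (k % p) := by
    conv_lhs => rw [← Nat.mod_add_div k p, pow_add, pow_mul, h, one_pow, mul_one]

/-- The representatives are conjugates of `y` in `H`. -/
theorem rep_conj (hb : baseOk D memH = true) (ht : treeOk D = true) : ∀ j < D.nR,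
    ∃ a ∈ H, PermCode.val D.n (D.rep j) = a * PermCode.val D.n D.y * a⁻¹ := by
  obtain ⟨⟨hxH, hyH, -, -⟩, -, -, hrep, ⟨hnR, h0⟩, -⟩ := base_spec hn hmem hb
  have hyo : PermCode.Ok D.n D.y := h0 ▸ hrep 0 hnR
  intro j
  induction j using Nat.strong_induction_on with
  | _ j ih =>
    intro hj
    rcases Nat.eq_zero_or_pos j with rfl | hjpos
    · exact ⟨1, one_mem H, by rw [h0, one_mul, inv_one, mul_one]⟩
    have h := PermCode.allLt_spec ht j hj
    simp only [Bool.or_eq_true, Nat.beq_eq, Nat.pos_iff_ne_zero.1 hjpos, false_or, treeOk.step,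
      Bool.and_eq_true, Nat.blt_eq] at h
    obtain ⟨⟨hv, hlt⟩, he⟩ := h
    generalize (D.tree.getD (j / 32) []).getD (j % 32) 0 = v at hv hlt he
    obtain ⟨hvo, hve⟩ := at_spec hn hmem hb hv
    simp only [Data.posOk, Bool.and_eq_true, Nat.blt_eq] at hv
    obtain ⟨a, ha, hae⟩ := ih _ hlt hv.2
    have e := congrArg (PermCode.val D.n) he
    rw [PermCode.val_mul hn hyo hvo, PermCode.val_mul hn (hrep j hj) hyo, hve, hae] at e
    refine ⟨PermCode.val D.n D.y * PermCode.val D.n D.x ^ (v % 32) * a,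
      mul_mem (mul_mem hyH (pow_mem hxH _)) ha, ?_⟩
    rw [← mul_inv_eq_iff_eq_mul.2 e]
    group

theorem incrFrom_spec (hb : baseOk D memH = true) : ∀ {b : ℕ} {vs : List ℕ}, incrFrom D b vs = true →
    (vs.map D.at').Pairwise (· < ·) ∧ (∀ v ∈ vs, b < D.at' v ∧ D.posOk v = true)
  | _, [], _ => ⟨List.Pairwise.nil, fun v hv => absurd hv (by simp)⟩
  | b, v :: vs, h => by
    simp only [incrFrom, Bool.and_eq_true, Nat.blt_eq] at h
    obtain ⟨ih1, ih2⟩ := incrFrom_spec hb h.2
    refine ⟨?_, ?_⟩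
    · rw [List.map_cons, List.pairwise_cons]
      refine ⟨fun a ha => ?_, ih1⟩
      obtain ⟨w, hw, rfl⟩ := List.mem_map.1 ha
      exact (ih2 w hw).1
    · intro w hw
      rcases List.mem_cons.1 hw with rfl | hw
      · exact ⟨h.1.2, h.1.1⟩
      · exact ⟨h.1.2.trans (ih2 w hw).1, (ih2 w hw).2⟩

theorem code_inj (hb : baseOk D memH = true) {v w : ℕ} (hv : D.posOk v = true) (hw : D.posOk w = true)
    (h : PermCode.val D.n (D.at' v) = PermCode.val D.n (D.at' w)) : D.at' v = D.at' w := by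
  obtain ⟨⟨-, -, hp, -⟩, -, hpw, hrep, -, -⟩ := base_spec hn hmem hb
  simp only [Data.posOk, Bool.and_eq_true, Nat.blt_eq] at hv hw
  exact code_inj' hn (hpw _ hv.1).1 (PermCode.ok_mul hn (hrep _ hv.2) (hpw _ (Nat.mod_lt _ hp)).1)
    (hpw _ hw.1).1 (PermCode.ok_mul hn (hrep _ hw.2) (hpw _ (Nat.mod_lt _ hp)).1) rfl rfl h

theorem at_conj (hb : baseOk D memH = true) (ht : treeOk D = true) {v : ℕ} (hv : D.posOk v = true) :
    ∃ a : H, (a : Equiv.Perm (Fin D.n)) * PermCode.val D.n D.y * (a : Equiv.Perm (Fin D.n))⁻¹ =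
      PermCode.val D.n (D.at' v) := by
  obtain ⟨-, e⟩ := at_spec hn hmem hb hv
  simp only [Data.posOk, Bool.and_eq_true, Nat.blt_eq] at hv
  obtain ⟨a, ha, hae⟩ := rep_conj hn hmem hb ht _ hv.2
  have hxH := (base_spec hn hmem hb).1.1
  exact ⟨⟨_, mul_mem (pow_mem hxH (v % 32)) ha⟩, by rw [e, hae]; group⟩

/-- Every conjugate of `y` is listed. -/
theorem class_listed (hb : baseOk D memH = true) (ht : treeOk D = true) {c m : ℕ}
    (hcl : classOk D memH c m = true) (hcent : Nat.card (PermCode.span D.n D.centGens) = c)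
    (hcard : Nat.card H = m) (h : H) :
    ∃ v, D.posOk v = true ∧
      (h : Equiv.Perm (Fin D.n)) * PermCode.val D.n D.y * (h : Equiv.Perm (Fin D.n))⁻¹ =
        PermCode.val D.n (D.at' v) := by
  obtain ⟨⟨hxH, hyH, -, -⟩, -, -, -, ⟨hnR, h0⟩, -⟩ := base_spec hn hmem hb
  have hyok : PermCode.Ok D.n D.y := h0 ▸ (base_spec hn hmem hb).2.2.2.1 0 hnR
  simp only [classOk, Bool.and_eq_true, List.all_eq_true] at hcl
  obtain ⟨⟨hinc, hcg⟩, hlen⟩ := hcl
  obtain ⟨hpw, hv⟩ := incrFrom_spec hn hmem hb hinc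
  let y : H := ⟨PermCode.val D.n D.y, hyH⟩
  haveI : Finite (ConjAct H) := inferInstanceAs (Finite H)
  have hcomm : ∀ z : H, (z : Equiv.Perm (Fin D.n)) ∈ PermCode.span D.n D.centGens →
      ConjAct.toConjAct z ∈ MulAction.stabilizer (ConjAct H) y := by
    intro z hz
    rw [MulAction.mem_stabilizer_iff]
    show z * y * z⁻¹ = y
    rw [mul_inv_eq_iff_eq_mul]
    refine Subtype.ext ((Subgroup.mem_centralizer_singleton_iff (g := PermCode.val D.n D.y)).1 ?_)
    refine span_le (fun t ht => Subgroup.mem_centralizer_singleton_iff.2 ?_) hz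
    have ht' := congrArg (PermCode.val D.n) (Nat.eq_of_beq_eq_true (hcg t ht).2)
    rwa [PermCode.val_mul hn (hmem _ (hcg t ht).1).1 hyok,
      PermCode.val_mul hn hyok (hmem _ (hcg t ht).1).1] at ht'
  have hspanle : PermCode.span D.n D.centGens ≤ H := span_le fun t ht => (hmem _ (hcg t ht).1).2
  have hc : c ≤ Nat.card (MulAction.stabilizer (ConjAct H) y) := by
    rw [← hcent]
    refine Nat.card_le_card_of_injective
      (fun z => ⟨ConjAct.toConjAct (⟨z, hspanle z.2⟩ : H), hcomm _ z.2⟩) fun a b e => Subtype.ext ?_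
    exact congrArg (fun q : H => (q : Equiv.Perm (Fin D.n))) (ConjAct.toConjAct.injective (congrArg Subtype.val e) : (⟨a, hspanle a.2⟩ : H) = ⟨b, hspanle b.2⟩)
  have horb : (MulAction.orbit (ConjAct H) y).ncard * c ≤ m := by
    rw [← MulAction.index_stabilizer, ← hcard]
    calc _ ≤ (MulAction.stabilizer (ConjAct H) y).index * Nat.card (MulAction.stabilizer (ConjAct H) y) :=
          Nat.mul_le_mul_left _ hc
      _ = Nat.card H := Subgroup.index_mul_card _
  have hcpos : 0 < c := hcent ▸ Nat.card_pos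
  have hmemL : ∀ a ∈ D.sorted, ∃ b : H, (b : Equiv.Perm (Fin D.n)) * PermCode.val D.n D.y *
      (b : Equiv.Perm (Fin D.n))⁻¹ = PermCode.val D.n (D.at' a) :=
    fun a ha => at_conj hn hmem hb ht (hv a ha).2
  by_contra hno
  simp only [not_exists, not_and] at hno
  let F : Option (Fin D.sorted.length) → Equiv.Perm (Fin D.n) := fun o =>
    o.elim ((h : Equiv.Perm (Fin D.n)) * PermCode.val D.n D.y * (h : Equiv.Perm (Fin D.n))⁻¹)
      fun i => PermCode.val D.n (D.at' D.sorted[i])
  have hF : Function.Injective F := by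
    rintro (_ | i) (_ | j) e
    · rfl
    · exact absurd e (hno _ (hv _ (List.getElem_mem j.2)).2)
    · exact absurd e.symm (hno _ (hv _ (List.getElem_mem i.2)).2)
    · have e' := code_inj hn hmem hb (hv _ (List.getElem_mem i.2)).2 (hv _ (List.getElem_mem j.2)).2 e
      have := (show (D.sorted.map D.at').Nodup from hpw.imp Nat.ne_of_lt).getElem_inj_iff
        (i := i.1) (j := j.1) (hi := by simp) (hj := by simp) |>.1 (by simpa using e')
      exact congrArg some (Fin.ext this)
  have hrange : Set.range F ⊆ ((fun g : H => (g : Equiv.Perm (Fin D.n))) '' MulAction.orbit (ConjAct H) y) := by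
    rintro _ ⟨(_ | i), rfl⟩
    · exact ⟨h * y * h⁻¹, ⟨ConjAct.toConjAct h, rfl⟩, rfl⟩
    · obtain ⟨b, hb'⟩ := hmemL _ (List.getElem_mem i.2)
      exact ⟨b * y * b⁻¹, ⟨ConjAct.toConjAct b, rfl⟩, hb'⟩
  have hbig : D.sorted.length + 1 ≤ (MulAction.orbit (ConjAct H) y).ncard := by
    rw [← Set.ncard_image_of_injective _ (Subtype.val_injective : Function.Injective fun g : H => (g : Equiv.Perm (Fin D.n)))]
    refine le_trans (le_of_eq ?_) (Set.ncard_le_ncard hrange (Set.toFinite _))
    rw [Set.ncard_range_of_injective hF, Nat.card_eq_fintype_card, Fintype.card_option, Fintype.card_fin]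
  have e : D.sorted.length * c = m := Nat.eq_of_beq_eq_true hlen
  have := Nat.mul_le_mul_right c hbig
  rw [Nat.succ_mul] at this
  omega

/-- The main bound. -/
theorem card_out_le' (hb : baseOk D memH = true) (ht : treeOk D = true)
    (hk : classesOk D memH = true) (hs : sylOk D memH = true)
    (hpairs : pairsOk D = true) [hp : Fact D.p.Prime] {m c : ℕ} (hcl : classOk D memH c m = true)
    (hcent : Nat.card (PermCode.span D.n D.centGens) = c)
    (hcard : Nat.card H = m)
    (hspan : Nat.card (PermCode.span D.n [D.x, D.y]) = m) (hsq : ¬ D.p ^ 2 ∣ m)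
    (hsyl : Nat.card (PermCode.span D.n D.sylGens) = 2 ^ D.e) (h2 : ¬ 2 ^ (D.e + 1) ∣ m) :
    Nat.card (Out H) ≤ D.goods.length := by
  obtain ⟨⟨hxH, hyH, hp0, -⟩, ⟨hxp, hx1, hy2, hy1⟩, hpw, hrepok, ⟨hnR, h0⟩, hrels⟩ := base_spec hn hmem hb
  have hrep : ∀ j < D.nR, PermCode.Ok D.n (D.rep j) ∧ PermCode.val D.n (D.rep j) ∈ H := fun j hj => by
    obtain ⟨a, ha, e⟩ := rep_conj hn hmem hb ht j hj
    exact ⟨hrepok j hj, e ▸ mul_mem (mul_mem ha hyH) (inv_mem ha)⟩
  have hHspan : PermCode.span D.n [D.x, D.y] = H := by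
    have hle : PermCode.span D.n [D.x, D.y] ≤ H := span_le fun s hs => by
      simp only [List.mem_cons, List.not_mem_nil, or_false] at hs
      rcases hs with rfl | rfl
      · exact hxH
      · exact hyH
    exact Subgroup.eq_of_le_of_card_ge hle (by rw [hspan, hcard])
  have hclosure : Subgroup.closure {PermCode.val D.n D.x, PermCode.val D.n D.y} = H := by
    refine le_antisymm ((Subgroup.closure_le H).2 ?_) (hHspan ▸ span_le fun s hs => ?_)
    · rintro z (rfl | rfl)
      · exact hxH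
      · exact hyH
    · simp only [List.mem_cons, List.not_mem_nil, or_false] at hs
      rcases hs with rfl | rfl <;> exact Subgroup.subset_closure (by simp)
  let x : H := ⟨PermCode.val D.n D.x, hxH⟩
  let y : H := ⟨PermCode.val D.n D.y, hyH⟩
  have hgen : Subgroup.closure {x, y} = ⊤ := by
    apply Subgroup.map_injective H.subtype_injective
    rw [MonoidHom.map_closure, Set.image_insert_eq, Set.image_singleton, ← MonoidHom.range_eq_map,
      Subgroup.range_subtype]
    exact hclosure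
  have hxo : orderOf x = D.p := orderOf_eq_prime (Subtype.ext hxp) fun e => hx1 (congrArg Subtype.val e)
  have hyo : orderOf y = 2 := orderOf_eq_prime (Subtype.ext hy2) fun e => hy1 (congrArg Subtype.val e)
  let R : List H := (List.finRange D.nR).map fun j : Fin D.nR => ⟨PermCode.val D.n (D.rep j), (hrep j j.2).2⟩
  have hrels' : ∀ r ∈ D.rels, wordProd x y r.1 ^ r.2 = 1 := fun r hr => by
    apply H.subtype_injective
    rw [map_pow, map_wordProd, map_one]
    exact hrels r hr
  have hxclass : ∀ φ : MulAut H, ∃ k ∈ D.ks, ∃ h : H, φ x = h * x ^ k * h⁻¹ := by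
    intro φ
    have ho : orderOf (φ x) = D.p := (φ.orderOf_eq x).trans hxo
    obtain ⟨c, hc⟩ := exists_conj_mem (S := Subgroup.zpowers x) (k := 1)
      (by rw [Nat.card_zpowers, hxo, pow_one]) (by rw [hcard]; exact hsq) ho
    rw [← mem_powers_iff_mem_zpowers, Submonoid.mem_powers_iff] at hc
    obtain ⟨k, hk'⟩ := hc
    have hk0 : k % D.p ≠ 0 := by
      intro e
      have : x ^ k = 1 := by rw [← Nat.mod_add_div k D.p, e, zero_add, pow_mul, ← hxo, pow_orderOf_eq_one, one_pow]
      rw [this, eq_comm, conj_eq_one_iff] at hk'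
      rw [hk', orderOf_one] at ho
      exact hp.out.one_lt.ne ho
    have h1 := PermCode.allLt_spec hk (k % D.p) (Nat.mod_lt _ hp0)
    simp only [Bool.or_eq_true, Bool.and_eq_true, Nat.beq_eq, Nat.blt_eq, hk0, false_or,
      List.contains_iff_mem] at h1
    obtain ⟨⟨⟨hcm, hlt⟩, hin⟩, he⟩ := h1
    generalize D.conjs.getD (k % D.p) (0, 0) = q at hcm hlt hin he
    obtain ⟨hq, hqH⟩ := hmem _ hcm
    obtain ⟨ho1, e1⟩ := hpw _ hlt
    obtain ⟨ho2, e2⟩ := hpw (k % D.p) (Nat.mod_lt _ hp0)
    have e := congrArg (PermCode.val D.n) he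
    rw [PermCode.val_mul hn hq ho1, PermCode.val_mul hn ho2 hq, e1, e2] at e
    let a : H := ⟨PermCode.val D.n q.1, hqH⟩
    have ea : a * x ^ q.2 = x ^ k * a := by
      rw [show x ^ k = x ^ (k % D.p) by rw [← hxo, pow_mod_orderOf]]
      exact Subtype.ext e
    refine ⟨q.2, hin, c⁻¹ * a, ?_⟩
    calc φ x = c⁻¹ * (x ^ k) * c := by rw [hk']; group
      _ = c⁻¹ * (a * x ^ q.2 * a⁻¹) * c := by rw [ea, mul_inv_cancel_right]
      _ = c⁻¹ * a * x ^ q.2 * (c⁻¹ * a)⁻¹ := by group
  have hyok : PermCode.Ok D.n D.y := h0 ▸ hrepok 0 hnR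
  have hyfix : ∀ φ : MulAut H, ∃ a : H, φ y = a * y * a⁻¹ := by
    intro φ
    simp only [sylOk, Bool.and_eq_true, List.all_eq_true] at hs
    obtain ⟨⟨⟨⟨⟨hclo, hgm⟩, hyin⟩, hlenS'⟩, hcm⟩, hz⟩ := hs
    have hlenS : D.sylElts.length = 2 ^ D.e := Nat.eq_of_beq_eq_true hlenS'
    have hle : PermCode.span D.n D.sylGens ≤ H := span_le fun s hs => (hmem _ (hgm s hs)).2
    let S : Subgroup H := (PermCode.span D.n D.sylGens).subgroupOf H
    haveI : Fact (Nat.Prime 2) := ⟨Nat.prime_two⟩
    have hScard : Nat.card S = 2 ^ D.e := by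
      rw [Nat.card_congr (Subgroup.subgroupOfEquivOfLe hle).toEquiv, hsyl]
    have hind : ¬ 2 ∣ S.index := by
      intro hd
      apply h2
      rw [← hcard, ← S.card_mul_index, hScard, pow_succ]
      exact Nat.mul_dvd_mul_left _ hd
    let P : Sylow 2 H := (IsPGroup.of_card hScard).toSylow hind
    let S' : Subgroup H := S.map φ.toMonoidHom
    have hS'card : Nat.card S' = 2 ^ D.e := by
      rw [Subgroup.card_map_of_injective φ.injective, hScard]
    obtain ⟨Q, hQ⟩ := (IsPGroup.of_card hS'card).exists_le_sylow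
    obtain ⟨a, ha⟩ := MulAction.exists_smul_eq H P Q
    have hQcard : Nat.card Q ≤ Nat.card S' := by
      rw [hS'card, ← hScard, Q.card_eq_multiplicity]
      exact le_of_eq P.card_eq_multiplicity.symm
    have hS'Q : S' = (Q : Subgroup H) := Subgroup.eq_of_le_of_card_ge hQ hQcard
    have hyS : y ∈ S := by
      obtain ⟨e', he', hee⟩ := List.any_eq_true.1 hyin
      rw [Subgroup.mem_subgroupOf]
      have : PermCode.val D.n e'.1 ∈ PermCode.span D.n D.sylGens := by
        exact elt_mem hn hclo (le_of_eq (by rw [hsyl]; exact hlenS)) he'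
      rwa [Nat.eq_of_beq_eq_true hee] at this
    have hmemQ : φ y ∈ ((a • P : Sylow 2 H) : Subgroup H) := by
      rw [ha, ← hS'Q]
      exact Subgroup.mem_map_of_mem _ hyS
    obtain ⟨u, hu, hue⟩ := hmemQ
    have hue' : a * u * a⁻¹ = φ y := hue
    refine ⟨a, ?_⟩
    have hucent : ∀ s ∈ S, s * u = u * s := by
      intro s hs'
      obtain ⟨r, hr, hre⟩ : ∃ r ∈ S, φ r = a * s * a⁻¹ := by
        have : a * s * a⁻¹ ∈ S' := by
          rw [hS'Q, ← ha]
          exact ⟨s, hs', rfl⟩
        exact this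
      have hyr : r * y = y * r := Subtype.ext (by
        have hr' := Subgroup.mem_subgroupOf.1 hr
        refine (Subgroup.mem_centralizer_singleton_iff (g := PermCode.val D.n D.y)).1 ?_
        refine span_le (fun t ht => Subgroup.mem_centralizer_singleton_iff.2 ?_) hr'
        have ht' := congrArg (PermCode.val D.n) (Nat.eq_of_beq_eq_true (hcm t ht))
        rwa [PermCode.val_mul hn (hmem _ (hgm t ht)).1 hyok,
          PermCode.val_mul hn hyok (hmem _ (hgm t ht)).1] at ht')
      have e := congrArg φ hyr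
      rw [map_mul, map_mul, hre, ← hue'] at e
      calc s * u = a⁻¹ * (a * s * a⁻¹ * (a * u * a⁻¹)) * a := by group
        _ = a⁻¹ * (a * u * a⁻¹ * (a * s * a⁻¹)) * a := by rw [e]
        _ = u * s := by group
    obtain ⟨e', he', heo, hee⟩ := exists_code_of_mem hn hclo (Subgroup.mem_subgroupOf.1 hu)
    have hu1 : u ≠ 1 := by
      intro e
      rw [e, mul_one, mul_inv_cancel] at hue'
      have := (φ.orderOf_eq y).trans hyo
      rw [← hue', orderOf_one] at this
      omega
    have hz' := hz e' he'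
    simp only [Bool.or_eq_true, List.any_eq_true, Bool.not_eq_true'] at hz'
    rcases hz' with (h1 | h1) | ⟨t, ht, h1⟩
    · exact absurd (Subtype.ext (hee ▸ val_eq_one hn heo h1)) hu1
    · rw [← hue', show u = y from Subtype.ext (by rw [← hee, Nat.eq_of_beq_eq_true h1])]
    · exfalso
      have hts : (⟨PermCode.val D.n t, (hmem _ (hgm t ht)).2⟩ : H) ∈ S :=
        Subgroup.subset_closure ⟨t, ht, rfl⟩
      have e := congrArg Subtype.val (hucent _ hts)
      refine Bool.false_ne_true (h1.symm.trans ?_)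
      rw [Nat.beq_eq]
      refine code_eq hn ((hmem _ (hgm t ht)).1) heo ?_
      rw [hee]
      exact e
  have hyclass : ∀ φ : MulAut H, ∀ g : H, (∃ h : H, g = h * φ y * h⁻¹) →
      ∃ r ∈ R, ∃ i < D.p, g = x ^ i * r * (x ^ i)⁻¹ := by
    rintro φ g ⟨h, rfl⟩
    obtain ⟨a, ha⟩ := hyfix φ
    obtain ⟨v, hv, hve⟩ := class_listed hn hmem hb ht hcl hcent hcard (h * a : H)
    obtain ⟨hvo, hvv⟩ := at_spec hn hmem hb hv
    simp only [Data.posOk, Bool.and_eq_true, Nat.blt_eq] at hv
    refine ⟨⟨PermCode.val D.n (D.rep (v / 32)), (hrep _ hv.2).2⟩,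
      List.mem_map.2 ⟨⟨v / 32, hv.2⟩, List.mem_finRange _, rfl⟩, v % 32, hv.1, Subtype.ext ?_⟩
    rw [ha]
    refine Eq.trans ?_ (hve.trans (hvv.trans ?_))
    · push_cast
      group
      rfl
    · rfl
  have key := card_out_le hgen
    (goods := D.goods.map fun q : ℕ × ℕ => (x ^ q.1, if hq : q.2 < D.nR then ⟨PermCode.val D.n (D.rep q.2), (hrep q.2 hq).2⟩ else 1))
    fun φ => by
      obtain ⟨h, k, hkk, r, hr, e1, e2, hrel⟩ := exists_normal_form hrels' φ (hxclass φ) (hyclass φ)
      obtain ⟨⟨j, hj⟩, -, rfl⟩ := List.mem_map.1 hr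
      refine ⟨h, ?_⟩
      rw [e1, e2, List.mem_map]
      obtain ⟨a, ha, rfl⟩ := List.mem_iff_getElem.1 hkk
      have h1 := PermCode.allLt_spec hpairs a ha
      rw [Bool.and_eq_true, List.getD_eq_getElem _ _ ha, Nat.blt_eq] at h1
      have h2' := PermCode.allLt_spec h1.2 j hj
      rw [Bool.or_eq_true, List.contains_iff_mem, Bool.not_eq_true'] at h2'
      rcases h2' with hg | hbad
      · exact ⟨_, hg, by rw [dif_pos hj]⟩
      · exfalso
        obtain ⟨ho1, ep⟩ := hpw _ h1.1
        obtain ⟨ho2, -⟩ := hrep j hj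
        generalize hw : D.rels.getD _ ([], 0) = w at hbad
        have hmemw : w ∈ D.rels ∨ w = ([], 0) := by
          rw [← hw]
          rcases Nat.lt_or_ge (((D.bad.getD a []).getD (j / 32) []).getD (j % 32) 0) D.rels.length with h | h
          · exact Or.inl (by rw [List.getD_eq_getElem _ _ h]; exact List.getElem_mem h)
          · exact Or.inr (List.getD_eq_default _ _ h)
        refine Bool.noConfusion (hbad.symm.trans ((relHolds_iff hn ho1 ho2 w).2 ?_))
        rcases hmemw with hw' | rfl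
        · have := congrArg H.subtype (hrel w hw')
          rw [map_pow, map_wordProd, map_one] at this
          rw [ep]
          exact this
        · exact pow_zero _
  rwa [List.length_map] at key

end CfsgLib.PermAut
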